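import Mathlib.CategoryTheory.Sites.CartesianClosed
import Mathlib.CategoryTheory.Comma.Over.Pullback

set_option autoImplicit false
universe v u
open CategoryTheory

namespace Groth.Agent.StarIhom
open CategoryTheory.Limits MonoidalCategory CartesianMonoidalCategory

variable {D : Type*} [Category D] [CartesianMonoidalCategory D] [HasBinaryProducts D]

noncomputable def pIso (Z W : D) : (Z ⨯ W) ≅ Z ⊗ W where
  hom := CartesianMonoidalCategory.lift prod.fst prod.snd
  inv := prod.lift (fst Z W) (snd Z W)
  hom_inv_id := by ext <;> simp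
  inv_hom_id := by
    apply CartesianMonoidalCategory.hom_ext <;> simp only [Category.assoc, Category.id_comp, lift_fst, lift_snd]
    · exact prod.lift_fst _ _
    · exact prod.lift_snd _ _

lemma pIso_nat (Z : D) {W W' : D} (f : W ⟶ W') :
    prod.map (𝟙 Z) f ≫ (pIso Z W').hom = (pIso Z W).hom ≫ Z ◁ f := by
  apply CartesianMonoidalCategory.hom_ext <;> simp [pIso]

noncomputable def starForgetIso (Z : D) : Over.star Z ⋙ Over.forget Z ≅ tensorLeft Z :=
  NatIso.ofComponents (fun W => pIso Z W) (fun f => pIso_nat Z f)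

theorem main (Z Y : D) [Closed Z] [(Over.star Z).IsLeftAdjoint] :
    Nonempty (((Over.star Z).rightAdjoint).obj ((Over.star Z).obj Y) ≅ (ihom Z).obj Y) := by
  let a1 := (Adjunction.ofIsLeftAdjoint (Over.star Z))
  let a2 := a1.comp (Over.forgetAdjStar Z)
  let a3 := a2.ofNatIsoLeft (starForgetIso Z)
  exact ⟨(a3.rightAdjointUniq (ihom.adjunction Z)).app Y⟩

end Groth.Agent.StarIhom

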